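import Mathlib
import Cfsg.Agent.H29.HNV.D0
import Cfsg.Agent.H29.HM133
import Cfsg.Agent.H29.Vec

set_option autoImplicit false
set_option maxRecDepth 100000
set_option Elab.async false
set_option linter.all false

namespace H29.HNV

open H19
instance instFin : Finite (GL (Fin 133) (ZMod 5)) := inferInstance
noncomputable def ax0 : List ℕ := [a0_0, a0_1, a0_2, a0_3]
def aw0 : List (List ℕ) := [[0, 0], [4, 6, 4, 2, 4, 2, 1, 2, 2, 4, 3, 3, 0, 3, 4, 3, 4, 6, 4], [2, 2, 4, 2, 5, 1, 4, 3, 3, 4, 3, 3, 1, 3, 4, 0, 6, 4, 3, 3], [2, 2, 1, 5, 4, 2, 1, 5, 4, 2, 1, 2, 4, 2, 0, 6, 3, 4, 5, 0, 2, 4]]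
noncomputable def at0 := wE HM133.σ aw0
noncomputable def ax1 : List ℕ := [a1_0, a1_1, a1_2]
def aw1 : List (List ℕ) := [[1, 1, 3], [0, 3, 3, 3, 0], [0, 2, 1, 0, 2, 0]]
noncomputable def at1 := wE at0 aw1
noncomputable def ax2 : List ℕ := [a2_0, a2_1]
def aw2 : List (List ℕ) := [[0, 1, 1, 0, 0, 0], [1, 0, 1, 0]]
noncomputable def at2 := wE at1 aw2
noncomputable def bx0 : List ℕ := [b0_0, b0_1, b0_2]
def bw0 : List (List ℕ) := [[1, 3, 3, 4, 2, 2, 4, 6, 4, 3, 3, 4, 2, 2, 4, 0], [2, 1, 3, 3, 4, 5, 4, 2, 4, 2, 4, 3, 4, 3, 3, 0, 5, 4, 3, 4, 2], [1, 2, 6, 4, 5, 1, 2, 2, 4, 3, 6, 4, 3, 4, 6, 0, 3, 4, 0, 2, 2, 2, 4, 0, 5]]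
noncomputable def bt0 := wE HM133.σ bw0
noncomputable def bx1 : List ℕ := [b1_0, b0_2]
def bw1 : List (List ℕ) := [[1, 2, 1, 2, 1], [2]]
noncomputable def bt1 := wE bt0 bw1
noncomputable def cx0 : List ℕ := [c0_0, c0_1]
def cw0 : List (List ℕ) := [[4, 3, 4, 3, 4, 6, 4, 2, 4, 2, 4], [1, 2, 1, 4, 5, 4, 3, 4, 3, 6, 4, 3, 0, 5, 4, 3, 4, 0, 6, 4, 2, 4, 2, 0, 3, 4]]
noncomputable def ct0 := wE HM133.σ cw0
noncomputable def cx1 : List ℕ := [c1_0, c1_1]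
def cw1 : List (List ℕ) := [[1, 1, 1, 1, 0, 1, 0, 0, 0, 0], [1, 0, 1, 0, 1, 1, 1]]
noncomputable def ct1 := wE ct0 cw1

end H29.HNV
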