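import Mathlib
import Cfsg.Agent.H29.HNV.B

set_option autoImplicit false
set_option maxRecDepth 100000
set_option Elab.async false
set_option linter.all false

namespace H29.HNV

open H19
theorem ac0_0 : chkW HM133.P.mul HM133.P.one HM133.lc aw0 ax0 0 = true := by decide +kernel

theorem ac0_1 : chkW HM133.P.mul HM133.P.one HM133.lc aw0 ax0 1 = true := by decide +kernel

theorem ac0_2 : chkW HM133.P.mul HM133.P.one HM133.lc aw0 ax0 2 = true := by decide +kernel

theorem ac0_3 : chkW HM133.P.mul HM133.P.one HM133.lc aw0 ax0 3 = true := by decide +kernel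

theorem ac1_0 : chkW HM133.P.mul HM133.P.one (nth HM133.P.one ax0) aw1 ax1 0 = true := by decide +kernel

theorem ac1_1 : chkW HM133.P.mul HM133.P.one (nth HM133.P.one ax0) aw1 ax1 1 = true := by decide +kernel

theorem ac1_2 : chkW HM133.P.mul HM133.P.one (nth HM133.P.one ax0) aw1 ax1 2 = true := by decide +kernel

theorem ac2_0 : chkW HM133.P.mul HM133.P.one (nth HM133.P.one ax1) aw2 ax2 0 = true := by decide +kernel

theorem ac2_1 : chkW HM133.P.mul HM133.P.one (nth HM133.P.one ax1) aw2 ax2 1 = true := by decide +kernel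

end H29.HNV
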