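import Mathlib
import Cfsg.Agent.H29.HNV.B

set_option autoImplicit false
set_option maxRecDepth 100000
set_option Elab.async false
set_option linter.all false

namespace H29.HNV

open H19
theorem al2 : chkLev HM133.P 3 (nth HM133.P.one ax2) [0, 1] (nat_lit 0x4000008000020000080000000000c0000300000800000000010000010000100000200000c000010000000000000000c0000100000800003000000000030000040000400000400000000008000000000000000200000c0000300000000002000000000030000100000100000c00001000010000010000040000300000400001000010000040000040000400000c0000400000c0000100000c00002000004000030000080000400000800003000010000000000100000300001000000000010000010000040000000000400004000004000030000000000100001000000000010000020000100000100000c000020000000000400000400002000000000040000000000100000800001000010000010000100000400000c00001000008000030000080000400000c00002000010000040000100000100000c0000400000c0000200000c00000000004000010000000000000000000004000004000040000080000200000c0000100000400004) [(0, 0), (1, 1), (1, 0), (2, 1), (1, 0), (2, 1), (1, 1)] [] = true := by decide +kernel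

theorem al1 : chkLev HM133.P 3 (nth HM133.P.one ax1) [0, 1, 2] (nat_lit 0x300000c0000200000c00002000008000020000000000200000c00004000004000030000040000300000000004000004000020000080000400000c000000000100000300001000001000004000010000040000300000800004000004000010000100000400000000000000004000020000000000200000800002000008000010000100000200000c0000100000c00002000004000000000040000300000c000010000080000000000c00002000010000040000100000100000c0000300000800003000008000030000040000100000400002000008000020000040000200000c0000100000800001000008000010000040000200000000004000010000000000080000200000c000020000040000000000c0000000000c0000000000c000000000040000200000c0000100001000001000004000030000000000200000c00000000008000040000100000100000c000020000000000400000400001000004000030000000000000000000000) [(0, 0), (1, 1), (2, 2), (2, 0), (3, 1), (4, 2), (4, 0), (5, 1), (6, 2), (6, 0), (7, 1), (7, 0), (8, 1), (9, 2), (9, 0), (10, 1), (11, 2), (11, 0), (12, 1), (12, 0), (13, 1), (14, 2), (14, 0), (15, 2), (14, 0), (15, 1), (15, 0), (16, 1), (17, 2), (17, 0), (18, 1), (18, 0), (19, 1), (20, 2), (20, 0), (20, 0), (21, 2), (21, 0), (21, 1), (21, 0), (21, 0), (22, 2), (22, 2), (21, 1), (21, 0), (22, 1), (23, 2), (23, 1), (23, 1), (23, 2), (22, 0), (23, 2), (21, 0), (22, 2),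 (22, 0), (23, 2), (23, 0), (24, 2), (24, 1), (23, 2), (22, 1), (22, 2), (18, 2)] ax2 = true := by decide +kernel

theorem al0 : chkLev HM133.P 3 (nth HM133.P.one ax0) [0, 1, 2, 3] (nat_lit 0x400000c000000000000000400000800003000004000010000080000100000800003000004000020000000000200000c0000200001000000000008000040000100000300001000001000000000000000000000200000800001000004000030000000000200000c00003000004000010000100000000001000004000004000040000000000100000c0000100001000002000010000000000080000400000000000000010000000000080000200000400003000000000010000080000400000c000000000100000100000000003000010000010000100000400001000004000008000000000000000000000400000000008000030000100000000000400003000008000000000040000000000000000000010000010000000000200000c00001000000000000000080000400000400004000000000010000100000000000c00000000000000030000100000300000c000030000040000400000c0000300000c000030000080000300000800001) [(0, 0), (1, 1), (2, 2), (3, 3), (3, 1), (4, 2), (4, 0), (5, 1), (6, 2), (7, 3), (7, 1), (8, 3), (8, 0), (9, 1), (10, 2), (11, 3), (11, 0), (12, 1), (13, 2), (14, 3), (14, 3), (13, 2), (12, 2), (11, 1), (12, 3), (11, 0), (10, 0), (9, 2), (8, 2), (7, 1), (8, 3)] ax1 = true := by decide +kernel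

theorem bc0_0 : chkW HM133.P.mul HM133.P.one HM133.lc bw0 bx0 0 = true := by decide +kernel

end H29.HNV
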