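import Mathlib
import Cfsg.Agent.H29.HNV.B

set_option autoImplicit false
set_option maxRecDepth 100000
set_option Elab.async false
set_option linter.all false

namespace H29.HNV

open H19
theorem bc0_1 : chkW HM133.P.mul HM133.P.one HM133.lc bw0 bx0 1 = true := by decide +kernel

theorem bc0_2 : chkW HM133.P.mul HM133.P.one HM133.lc bw0 bx0 2 = true := by decide +kernel

theorem bc1_0 : chkW HM133.P.mul HM133.P.one (nth HM133.P.one bx0) bw1 bx1 0 = true := by decide +kernel

theorem bc1_1 : chkW HM133.P.mul HM133.P.one (nth HM133.P.one bx0) bw1 bx1 1 = true := by decide +kernel

theorem bl1 : chkLev HM133.P 3 (nth HM133.P.one bx1) [0, 1] (nat_lit 0x40000080000300000400004000004000020000000000400000c0000400001000004000010000040000040000200000400000000008000000000080000100000c0000200001000003000004000040000080000400000c000020000040000100000c0000200000800004000004000040000040000100000800000000010000040000000000200000000000000008000010000080000300001000001000000000030000000000000000000004000004000000000080000000000c00002000008000000000080000100000c000000000100000100000c00001000004000010000040000400000c0000300000c0000300001000000000000000010000080000100000c000030000040000300000400002000008000000000000000300000400002000000000040000000000100000c0000300000000002000010000020000000000100000000003000000000010000000000300000c0000400000400002000004000040000100000300000400001)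 [(0, 0), (1, 1), (1, 0), (2, 1), (2, 1), (2, 1), (2, 1), (1, 1)] [] = true := by decide +kernel

end H29.HNV
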