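import Mathlib
import Cfsg.Agent.H29.HNV.B

set_option autoImplicit false
set_option maxRecDepth 100000
set_option Elab.async false
set_option linter.all false

namespace H29.HNV

open H19
theorem bl0 : chkLev HM133.P 3 (nth HM133.P.one bx0) [0, 1, 2] (nat_lit 0x2000010000010000000000400000c0000100000c0000200000800002000008000020000100000200000400003000000000020000000000100000c00001000008000020000080000300001000002000010000040000040000400000c0000400000c00004000010000020000100000300000800001000010000000000000000000001000004000000000000000040000000000c000030000000000300000400000000004000020000040000000000c00003000004000030000080000200001000003000000000000000100000100000c000040000080000300001000001000004000030000100000000000800001000000000030000080000100000c000030000100000100000c00000000008000010000100000200000800003000010000040000080000000000800001000010000030000040000100001000002000010000040000100000300000400002000008000030000100000300000400000000004000020000100000200001000000) [(0, 0), (1, 1), (1, 0), (2, 1), (3, 2), (3, 1), (4, 2), (4, 1), (5, 2), (5, 1), (6, 2), (6, 0), (7, 1), (8, 2), (8, 2), (8, 0), (9, 1), (10, 2), (10,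 1), (11, 2), (11, 0), (12, 1), (12, 2), (12, 0), (13, 1), (14, 2), (14, 0), (15, 1), (15, 1), (16, 2), (16, 1), (16, 0), (17, 1), (17, 0), (18, 1), (19, 2), (19, 1), (19, 0), (19, 2), (19, 0), (20, 1), (21, 2), (21, 1), (21, 1), (21, 0), (22, 1), (23, 2), (23, 0), (24, 1), (25, 2), (25, 1), (26, 2), (26, 0), (27, 1), (27, 1), (27, 1), (24, 0), (25, 1), (24, 1), (24, 1), (21, 0), (22, 1), (22, 1), (23, 2), (23, 1), (23, 0), (23, 1), (22, 0), (23, 1), (23, 2), (23, 1), (23, 1), (23, 1), (18, 1), (17, 1), (16, 1), (15, 1), (14, 1), (10, 1), (7, 1)] bx1 = true := by decide +kernel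

theorem cc0_0 : chkW HM133.P.mul HM133.P.one HM133.lc cw0 cx0 0 = true := by decide +kernel

theorem cc0_1 : chkW HM133.P.mul HM133.P.one HM133.lc cw0 cx0 1 = true := by decide +kernel

theorem cc1_0 : chkW HM133.P.mul HM133.P.one (nth HM133.P.one cx0) cw1 cx1 0 = true := by decide +kernel

end H29.HNV
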