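import Mathlib
import Cfsg.Agent.H29.HNV.B

set_option autoImplicit false
set_option maxRecDepth 100000
set_option Elab.async false
set_option linter.all false

namespace H29.HNV

open H19
theorem cc1_1 : chkW HM133.P.mul HM133.P.one (nth HM133.P.one cx0) cw1 cx1 1 = true := by decide +kernel

theorem cl1 : chkLev HM133.P 3 (nth HM133.P.one cx1) [0, 1] (nat_lit 0x40000100000300000c000020000100000200000400002000008000010000000000400000c0000400000c00003000008000020000000000100000c00000000008000010000100000100000000002000010000030000000000100000c0000300000c00003000004000010000080000100001000003000008000020000000000200000400000000004000010000080000100000c00003000010000010000080000000000400000000008000030000080000300000c000030000100000000000400001000008000000000040000100000c0000400000c00001000010000000000000000200000c00001000008000010000000000300001000000000008000040000000000000000800004000008000030000040000000000c0000200001000002000010000000000080000400000800002000000000020000080000100000000002000004000040000080000000000c000020000040000200000000002000004000030000080000300000c00001) [(0,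 0), (1, 1), (1, 0), (2, 1), (2, 0), (3, 1), (3, 0), (4, 1), (4, 0), (5, 1), (5, 0), (6, 1), (6, 0), (7, 1), (7, 0), (8, 1), (8, 0), (9, 1), (9, 0), (10, 1), (10, 0), (11, 1), (11, 0), (11, 0), (12, 1), (12, 0), (13, 1), (13, 0), (14, 1), (14, 1), (14, 0), (15, 1), (15, 0), (16, 1), (16, 0), (17, 1), (17, 0), (17, 0), (18, 1), (18, 0), (19, 1), (19, 0), (20, 1), (20, 0), (19, 0), (20, 1), (19, 1), (19, 1), (19, 0), (19, 0), (20, 1), (20, 0), (21, 1), (21, 0), (22, 1), (22, 0), (22, 0), (23, 1), (23, 0), (24, 1), (24, 0), (25, 1), (25, 0), (24, 0), (25, 1), (24, 1), (24, 1), (24, 0), (22, 1), (22, 1), (22, 1), (22, 1), (22, 0), (23, 1), (23, 0), (24, 1), (24, 0), (24, 0), (25, 1), (25, 0), (26, 1), (26, 0), (27, 1), (27, 0), (26, 0), (27, 1), (26, 1), (26, 1), (26, 0), (24, 1), (24, 1), (24, 1), (24, 1), (20, 0), (20, 0), (21, 1), (21, 0), (22, 1), (22, 0), (23, 1), (23, 0), (22, 0), (23, 1), (22, 1), (22, 1), (22, 0), (20, 1), (20, 1), (20, 1), (20, 1), (16, 0), (15, 0), (16, 1), (15, 1), (15, 1), (15, 0), (13, 1), (13, 1), (13, 1), (13, 1), (7, 1), (7, 1), (7, 1), (7, 1)] [] = true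 := by decide +kernel

end H29.HNV
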