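import Mathlib
import Cfsg.Agent.H29.HNV.B

set_option autoImplicit false
set_option maxRecDepth 100000
set_option Elab.async false
set_option linter.all false

namespace H29.HNV

open H19
theorem cl0 : chkLev HM133.P 3 (nth HM133.P.one cx0) [0, 1] (nat_lit 0xc000010000100000400000c0000200000c0000300000c00001000000000020000100000200000c0000000000c00004000008000010000100000000000c000030000080000200000800000000008000040000000000100000c000010000040000200000c0000100000c00003000008000010000040000300000c0000400000400004000010000000000040000100000400001000004000040000100000400000c00001000000000040000040000100000800002000004000000000040000300000000004000000000010000080000200000c0000200000c00003000008000040000080000000000c000000000080000400000000004000000000010000080000000001000002000004000040000100000100001000001000004000040000000000100000400000000008000010000040000300000c000010000100000400000000003000008000030000000000000000c0000200000c000020000000000100000c0000100001000000) [(0, 0), (1, 1), (1, 0), (2, 1), (2, 0), (3, 1), (3, 0),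 (4, 1), (4, 0), (5, 1), (5, 0), (6, 1), (6, 0), (7, 1), (7, 0), (8, 1), (8, 0), (9, 1), (9, 0), (10, 1), (10, 0), (11, 1), (11, 0), (12, 1), (12, 1), (12, 0), (13, 1), (13, 0), (14, 1), (14, 1), (14, 0), (15, 1), (15, 0), (16, 1), (16, 0), (17, 1), (17, 0), (18, 1), (18, 1), (18, 0), (19, 1), (19, 0), (20, 1), (20, 0), (20, 1), (20, 0), (21, 1), (21, 1), (21, 0), (22, 1), (22, 1), (21, 0), (22, 1), (22, 0), (23, 1), (23, 0), (23, 0), (24, 1), (24, 1), (24, 0), (25, 1), (25, 1), (25, 0), (25, 1), (25, 0), (26, 1), (26, 1), (26, 0), (27, 1), (27, 1), (25, 0), (26, 1), (26, 1), (26, 1), (26, 0), (27, 1), (27, 1), (27, 1), (26, 0), (27, 1), (27, 0), (27, 0), (28, 1), (27, 0), (27, 0), (27, 1), (27, 1), (27, 1), (27, 1), (25, 0), (26, 1), (26, 1), (26, 1), (26, 0), (27, 1), (27, 1), (27, 1), (26, 1), (26, 1), (26, 1), (25, 1), (25, 1), (25, 1), (24, 0), (25, 1), (24, 0), (24, 0), (21, 1), (21, 1), (21, 1), (21, 1), (21, 1), (21, 1), (21, 1), (20, 1), (20, 1), (20, 1), (19, 1), (17, 1), (15, 0), (12, 1), (11, 1), (10, 1), (8, 1)]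 cx1 = true := by decide +kernel

theorem p7 : ev HM133.σ [4, 2, 4, 5, 3] ^ 7 = 1 ∧ ev HM133.σ [4, 2, 4, 5, 3] ≠ 1 :=
  HM133.C.pow_eq_one HM133.hl.1 (by norm_num) (by decide +kernel)

theorem p11 : ev HM133.σ [1, 2, 0, 2, 4, 3, 6] ^ 11 = 1 ∧ ev HM133.σ [1, 2, 0, 2, 4, 3, 6] ≠ 1 :=
  HM133.C.pow_eq_one HM133.hl.1 (by norm_num) (by decide +kernel)

end H29.HNV
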