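import Mathlib
import Cfsg.Agent.H29.HNV.B

set_option autoImplicit false
set_option maxRecDepth 100000
set_option Elab.async false
set_option linter.all false

namespace H29.HNV

open H19
theorem p19 : ev HM133.σ [3, 6, 4, 2, 2, 1] ^ 19 = 1 ∧ ev HM133.σ [3, 6, 4, 2, 2, 1] ≠ 1 :=
  HM133.C.pow_eq_one HM133.hl.1 (by norm_num) (by decide +kernel)

theorem po : ev HM133.σ [3, 6, 4, 2, 2, 1, 4] ^ 35 = 1 ∧ ev HM133.σ [3, 6, 4, 2, 2, 1, 4] ≠ 1 :=
  HM133.C.pow_eq_one HM133.hl.1 (by norm_num) (by decide +kernel)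

end H29.HNV
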